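/- Subobjects in an abelian category: modular lattice, covering relation vs simple quotient. -/
import Mathlib.CategoryTheory.Abelian.Refinements
import Mathlib.CategoryTheory.Subobject.Lattice
import Mathlib.CategoryTheory.Subobject.Limits
import Mathlib.CategoryTheory.Subobject.FactorThru
import Mathlib.CategoryTheory.Simple
import Mathlib.Order.ModularLattice

set_option autoImplicit false

open CategoryTheory CategoryTheory.Limits

universe v u

namespace Groth.Agent.AbSubobject.Lattice

variable {A : Type u} [Category.{v} A] [Abelian A] {X : A}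

/-- `Factors` descends along epimorphisms. -/
lemma factors_of_epi {T T' : A} (P : Subobject X) (π : T' ⟶ T) [Epi π] (f : T ⟶ X)
    (h : P.Factors (π ≫ f)) : P.Factors f := by
  have : StrongEpi π := strongEpi_of_epi π
  have sq : CommSq (P.factorThru (π ≫ f) h) π P.arrow f := ⟨by simp⟩
  exact (Subobject.factors_iff _ _).2 ⟨sq.lift, sq.fac_right⟩

/-- A morphism factors through a supremum of subobjects iff, after refinement, it is a sum. -/
lemma exists_sum_of_sup_factors {T : A} {P Q : Subobject X} (f : T ⟶ X) (h : (P ⊔ Q).Factors f) :
    ∃ (T' : A) (π : T' ⟶ T) (_ : Epi π) (x y : T' ⟶ X),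
      P.Factors x ∧ Q.Factors y ∧ π ≫ f = x + y := by
  let d : (P : A) ⊞ (Q : A) ⟶ X := biprod.desc P.arrow Q.arrow
  have hP : P ≤ imageSubobject d :=
    Subobject.le_of_comm (biprod.inl ≫ factorThruImageSubobject d) (by simp [d])
  have hQ : Q ≤ imageSubobject d :=
    Subobject.le_of_comm (biprod.inr ≫ factorThruImageSubobject d) (by simp [d])
  have h' := Subobject.factors_of_le f (sup_le hP hQ) h
  haveI : Epi (factorThruImageSubobject d) := by
    dsimp [factorThruImageSubobject]; infer_instance
  obtain ⟨T', π, hπ, z, hz⟩ := surjective_up_to_refinements_of_epi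
    (factorThruImageSubobject d) ((imageSubobject d).factorThru f h')
  refine ⟨T', π, hπ, z ≫ biprod.fst ≫ P.arrow, z ≫ biprod.snd ≫ Q.arrow, ?_, ?_, ?_⟩
  · rw [← Category.assoc]; exact Subobject.factors_comp_arrow _
  · rw [← Category.assoc]; exact Subobject.factors_comp_arrow _
  · have h1 : π ≫ f = z ≫ d := by
      have := congrArg (fun t => t ≫ (imageSubobject d).arrow) hz
      simpa using this
    rw [h1]
    simp [d, ← Preadditive.comp_add, biprod.desc_eq]

lemma le_iff_factors {P Q : Subobject X} : P ≤ Q ↔ Q.Factors P.arrow :=
  ⟨fun h => Subobject.factors_of_le _ h (Subobject.factors_self _), fun h =>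
    Subobject.le_of_comm (Q.factorThru P.arrow h) (by simp)⟩

instance isModularLattice : IsModularLattice (Subobject X) where
  sup_inf_le_assoc_of_le {x} y {z} hxz := by
    rw [le_iff_factors]
    set f := ((x ⊔ y) ⊓ z).arrow with hf
    have h1 : (x ⊔ y).Factors f := Subobject.inf_arrow_factors_left _ _
    have h2 : z.Factors f := Subobject.inf_arrow_factors_right _ _
    obtain ⟨T', π, hπ, a, b, ha, hb, hab⟩ := exists_sum_of_sup_factors f h1
    apply factors_of_epi _ π
    rw [hab]
    refine Subobject.factors_add _ _ ?_ ?_
    · exact Subobject.factors_of_le _ le_sup_left ha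
    · refine Subobject.factors_of_le _ le_sup_right ((Subobject.inf_factors b).2 ⟨hb, ?_⟩)
      have hb' : b = π ≫ f + (-(a)) := by rw [hab]; abel
      rw [hb']
      refine Subobject.factors_add _ _ (Subobject.factors_of_factors_right _ h2) ?_
      have := Subobject.factors_of_le _ hxz ha
      have e : -a = (-(z.factorThru a this)) ≫ z.arrow := by simp
      rw [e]
      exact Subobject.factors_comp_arrow _

/-- The quotient `Q/P` is simple iff `Q` covers `P`. -/
lemma simple_cokernel_iff_covBy {P Q : Subobject X} (h : P ≤ Q) :
    Simple (cokernel (Subobject.ofLE P Q h)) ↔ P ⋖ Q := by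
  set j := Subobject.ofLE P Q h with hj
  set q := cokernel.π j with hq
  constructor
  · intro hs
    refine ⟨lt_of_le_of_ne h ?_, fun {R} h1 h2 => ?_⟩
    · rintro rfl
      have : j = 𝟙 _ := by simp [hj]
      haveI : Epi j := by rw [this]; infer_instance
      exact Simple.not_isZero (cokernel j) (isZero_cokernel_of_epi j)
    · set r := Subobject.ofLE R Q h2.le with hr
      by_cases h0 : r ≫ q = 0
      · apply h1.not_ge
        exact Subobject.le_of_comm (Abelian.monoLift j r h0) (by
          have := Abelian.monoLift_comp j r h0
          calc Abelian.monoLift j r h0 ≫ P.arrow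
              = Abelian.monoLift j r h0 ≫ j ≫ Q.arrow := by simp [hj]
            _ = R.arrow := by rw [← Category.assoc, this]; simp [hr])
      · have := epi_of_nonzero_to_simple h0
        apply h2.ne
        have he : Epi r := by
          refine Preadditive.epi_of_cancel_zero _ fun {Z} g hg => ?_
          have hjg : j ≫ g = 0 := by
            have : j = Subobject.ofLE P R h1.le ≫ r := by simp [hj, hr]
            rw [this, Category.assoc, hg, comp_zero]
          have h3 : (r ≫ q) ≫ cokernel.desc j g hjg = 0 := by simp [hq, hg]
          have h4 : cokernel.desc j g hjg = 0 := by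
            rw [← cancel_epi (r ≫ q), h3, comp_zero]
          calc g = q ≫ cokernel.desc j g hjg := by simp [hq]
            _ = 0 := by rw [h4, comp_zero]
        haveI : IsIso r := isIso_of_mono_of_epi r
        exact Subobject.eq_of_comm (asIso r) (by simp [hr])
  · intro hc
    refine ⟨fun {Y} f _ => ⟨fun hi hf => ?_, fun hf => ?_⟩⟩
    · subst hf
      have hz : IsZero (cokernel j) := IsZero.iff_id_eq_zero _ |>.2 (by
        rw [← IsIso.inv_hom_id (0 : Y ⟶ cokernel j), comp_zero])
      haveI : Epi j := Preadditive.epi_of_isZero_cokernel j hz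
      haveI : IsIso j := isIso_of_mono_of_epi j
      exact hc.lt.ne (Subobject.eq_of_comm (asIso j) (by simp [hj]))
    · let R : Subobject X := Subobject.mk (pullback.fst q f ≫ Q.arrow)
      have hPR : P ≤ R := by
        refine Subobject.le_mk_of_comm (pullback.lift j 0 (by simp [hq])) ?_
        rw [← Category.assoc, pullback.lift_fst]; simp [hj]
      have hRQ : R ≤ Q := Subobject.mk_le_of_comm (pullback.fst q f) rfl
      haveI : Epi q := by rw [hq]; infer_instance
      rcases hc.eq_or_eq hPR hRQ with hRP | hRQ'
      · exfalso
        apply hf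
        have hfac : pullback.fst q f =
            Subobject.ofMkLE (pullback.fst q f ≫ Q.arrow) P hRP.le ≫ j := by
          rw [← cancel_mono Q.arrow]; simp [hj]
        have : pullback.snd q f ≫ f = 0 := by
          rw [← pullback.condition, hfac]; simp [hq]
        rw [← cancel_epi (pullback.snd q f), this, comp_zero]
      · have hi : IsIso (pullback.fst q f) := by
          have hle : Q ≤ R := hRQ'.ge
          refine ⟨Subobject.ofLEMk Q _ hle, ?_, ?_⟩
          · rw [← cancel_mono (pullback.fst q f ≫ Q.arrow)]; simp [-cancel_mono]
          · rw [← cancel_mono Q.arrow]; simp [-cancel_mono]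
        haveI : Epi (pullback.snd q f ≫ f) := by rw [← pullback.condition]; infer_instance
        haveI : Epi f := epi_of_epi (pullback.snd q f) f
        exact isIso_of_mono_of_epi f

end Groth.Agent.AbSubobject.Lattice
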