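/- A modular lattice with a finite covering chain from bottom to top satisfies both chain conditions. -/
import Mathlib.Order.ModularLattice
import Mathlib.Order.OrderIsoNat
import Mathlib.Order.Interval.Finset.Nat

set_option autoImplicit false

universe u

namespace Groth.Agent.AbSubobject.Chain

variable {α : Type u} [Lattice α] [IsModularLattice α]

lemma strictMono_of_covBy {a b : α} (h : a ⋖ b) :
    StrictMono (fun c : Set.Iic b => ((⟨c.1 ⊓ a, inf_le_right⟩ : Set.Iic a), (¬ c.1 ≤ a : Prop))) := by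
  intro c d hcd
  have hle : c.1 ≤ d.1 := hcd.le
  refine lt_of_le_of_ne ⟨inf_le_inf_right a hle, fun hc hd => hc (hle.trans hd)⟩ ?_
  intro he
  simp only [Prod.mk.injEq, Subtype.mk.injEq, eq_iff_iff, not_iff_not] at he
  obtain ⟨he1, he2⟩ := he
  apply hcd.ne
  apply Subtype.ext
  by_cases hca : c.1 ≤ a
  · rw [← inf_eq_left.2 hca, he1, inf_eq_left.2 (he2.1 hca)]
  · have hsup : c.1 ⊔ a = b := (h.eq_or_eq le_sup_right (sup_le c.2 h.le)).resolve_left
      (fun e => hca (sup_eq_right.1 e))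
    calc c.1 = c.1 ⊔ (c.1 ⊓ a) := by simp
      _ = c.1 ⊔ (a ⊓ d.1) := by rw [he1, inf_comm]
      _ = (c.1 ⊔ a) ⊓ d.1 := sup_inf_assoc_of_le a hle |>.symm
      _ = d.1 := by rw [hsup]; exact inf_eq_right.2 d.2

instance : Finite Prop := by infer_instance

theorem wellFounded_of_chain [BoundedOrder α] {n : ℕ} (F : Fin (n + 1) → α) (h0 : F 0 = ⊥)
    (hn : F (Fin.last n) = ⊤) (hs : ∀ i : Fin n, F i.castSucc ⋖ F i.succ) :
    WellFoundedLT α ∧ WellFoundedGT α := by
  have key : ∀ i, WellFoundedLT (Set.Iic (F i)) ∧ WellFoundedGT (Set.Iic (F i)) := by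
    intro i
    induction i using Fin.induction with
    | zero =>
      rw [h0]
      haveI : Subsingleton (Set.Iic (⊥ : α)) :=
        ⟨fun a b => Subtype.ext ((le_bot_iff.1 a.2).trans (le_bot_iff.1 b.2).symm)⟩
      exact ⟨inferInstance, inferInstance⟩
    | succ i ih =>
      obtain ⟨h1, h2⟩ := ih
      have hm := strictMono_of_covBy (hs i)
      exact ⟨hm.wellFoundedLT, hm.wellFoundedGT⟩
  obtain ⟨h1, h2⟩ := key (Fin.last n)
  rw [hn] at h1 h2
  have hm : StrictMono (fun x : α => (⟨x, le_top⟩ : Set.Iic (⊤ : α))) := fun a b h => h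
  exact ⟨hm.wellFoundedLT, hm.wellFoundedGT⟩

end Groth.Agent.AbSubobject.Chain
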